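import Groth.Agent.Flatmor4.SmoothDivisor
import Mathlib.RingTheory.RingHom.Etale
import Mathlib.RingTheory.TensorProduct.Quotient
import Mathlib.RingTheory.MvPolynomial.Ideal

/-! A retracted closed subscheme of a smooth algebra lies in an étale one. -/

set_option autoImplicit false
set_option backward.isDefEq.respectTransparency false
set_option backward.isDefEq.respectTransparency.types false
set_option linter.style.haveILetI false

universe u v w

open TensorProduct KaehlerDifferential

namespace Groth.Calg71

/-- Universe polymorphic form of the differential criterion for formal étaleness. -/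
theorem formallyEtale_of_mapBaseChange_bijective' {R : Type u} {P : Type v} {A : Type w} [CommRing R]
    [CommRing P] [CommRing A] [Algebra R P] [Algebra R A]
    [Algebra P A] [IsScalarTower R P A] [Algebra.FormallySmooth R A]
    (h : Function.Bijective (mapBaseChange R P A)) : Algebra.FormallyEtale P A := by
  refine ⟨⟨fun x y => ?_⟩, ⟨fun x y => ?_⟩⟩
  · obtain ⟨x, rfl⟩ := KaehlerDifferential.map_surjective R P A x
    obtain ⟨y, rfl⟩ := KaehlerDifferential.map_surjective R P A y
    obtain ⟨x, rfl⟩ := h.2 x
    obtain ⟨y, rfl⟩ := h.2 y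
    rw [(exact_mapBaseChange_map R P A).apply_apply_eq_zero,
      (exact_mapBaseChange_map R P A).apply_apply_eq_zero]
  · have key : ∀ z : Algebra.H1Cotangent P A, z = 0 := fun z => by
      have h0 : Algebra.H1Cotangent.δ R P A z = 0 :=
        h.1 (((Algebra.H1Cotangent.exact_δ_mapBaseChange R P A).apply_apply_eq_zero z).trans
          (map_zero _).symm)
      obtain ⟨w, rfl⟩ := (Algebra.H1Cotangent.exact_map_δ R P A z).mp h0
      rw [Subsingleton.elim w 0, map_zero]
    rw [key x, key y]

variable {C : Type v} {B : Type w} [CommRing C] [CommRing B] [Algebra C B] [Algebra.Smooth C B]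

/-- Quotient of a localization by functions with independent differentials. -/
theorem exists_away_quotient_etale (J : Ideal B)
    (hsurj : Function.Surjective ((Ideal.Quotient.mk J).comp (algebraMap C B))) (p : Ideal B) [p.IsPrime] :
    ∃ g, g ∉ p ∧ ∃ J₀ : Ideal (Localization.Away g), J₀ ≤ J.map (algebraMap B (Localization.Away g)) ∧
      Algebra.Etale C (Localization.Away g ⧸ J₀) := by
  classical
  let V := p.ResidueField ⊗[B] Ω[B⁄C]
  let dv : B → V := fun a => (1 : p.ResidueField) ⊗ₜ D C B a
  have ht : ⊤ ≤ Submodule.span p.ResidueField (dv '' (J : Set B)) := by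
    intro z hz
    clear hz
    induction z using TensorProduct.induction_on with
    | zero => exact zero_mem _
    | add x y hx hy => exact add_mem hx hy
    | tmul c ω =>
      have hω : ω ∈ Submodule.span B (Set.range (D C B)) := by
        rw [KaehlerDifferential.span_range_derivation]; trivial
      induction hω using Submodule.span_induction with
      | mem ω hω =>
        obtain ⟨a, rfl⟩ := hω
        obtain ⟨c₀, hc₀⟩ := hsurj (Ideal.Quotient.mk J a)
        have hj : a - algebraMap C B c₀ ∈ J := Ideal.Quotient.eq.1 hc₀.symm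
        have e1 : D C B a = D C B (a - algebraMap C B c₀) := by
          rw [map_sub, Derivation.map_algebraMap, sub_zero]
        have : c ⊗ₜ D C B a = c • dv (a - algebraMap C B c₀) := by
          simp only [dv]
          rw [← e1, TensorProduct.smul_tmul', smul_eq_mul, mul_one]
        rw [this]
        exact Submodule.smul_mem _ _ (Submodule.subset_span ⟨_, hj, rfl⟩)
      | zero => rw [tmul_zero]; exact zero_mem _
      | add x y _ _ hx hy => rw [tmul_add]; exact add_mem hx hy
      | smul a x _ hx =>
        have e : c ⊗ₜ[B] (a • x) = algebraMap B p.ResidueField a • (c ⊗ₜ[B] x) := by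
          rw [algebraMap_smul, tmul_smul]
        rw [e]
        exact Submodule.smul_mem _ _ hx
  have hs : LinearIndepOn p.ResidueField id (∅ : Set V) := linearIndepOn_empty _ _
  let b := Module.Basis.extendLe hs (Set.empty_subset _) ht
  have hrange : ∀ i : hs.extend (Set.empty_subset (dv '' (J : Set B))), ∃ a, a ∈ J ∧ dv a = b i := fun i => by
    obtain ⟨a, ha, he⟩ := Module.Basis.extendLe_subset hs (Set.empty_subset _) ht ⟨i, rfl⟩
    exact ⟨a, ha, he⟩
  choose a haJ ha using hrange
  haveI : Finite (hs.extend (Set.empty_subset (dv '' (J : Set B)))) := Module.Finite.finite_basis b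
  obtain ⟨g, hg, hbij⟩ := Groth.Flatmor4.exists_away_bijective p (fun i => D C B (a i)) b fun i => (ha i).symm
  refine ⟨g, hg, ?_⟩
  let L := Localization.Away g
  let ι := hs.extend (Set.empty_subset (dv '' (J : Set B)))
  let l₁ : (ι →₀ B) →ₗ[B] (ι →₀ L) := Finsupp.mapRange.linearMap (Algebra.linearMap B L)
  let l₂ : Ω[B⁄C] →ₗ[B] Ω[L⁄C] := KaehlerDifferential.map C C B L
  rw [← IsLocalizedModule.map_bijective_iff_localizedModuleMap_bijective l₁ l₂] at hbij
  let eL : (ι →₀ L) →ₗ[L] Ω[L⁄C] :=
    IsLocalizedModule.mapExtendScalars (Submonoid.powers g) l₁ l₂ L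
      (Finsupp.linearCombination B fun i => D C B (a i))
  let β : Module.Basis ι L Ω[L⁄C] := .ofRepr (LinearEquiv.ofBijective eL hbij).symm
  have hβ : ∀ i, β i = D C L (algebraMap B L (a i)) := fun i => by
    simp [β, eL, l₁, l₂, IsLocalizedModule.map_linearCombination]
  haveI : Algebra.FinitePresentation B L := IsLocalization.Away.finitePresentation g
  haveI : Algebra.FinitePresentation C L := .trans C B L
  haveI : Algebra.FormallySmooth B L := Algebra.FormallySmooth.of_isLocalization (Submonoid.powers g)
  haveI : Algebra.FormallySmooth C L := Algebra.FormallySmooth.comp C B L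
  let P := MvPolynomial ι C
  let φ : P →ₐ[C] L := MvPolynomial.aeval fun i => algebraMap B L (a i)
  letI : Algebra P L := φ.toRingHom.toAlgebra
  haveI : IsScalarTower C P L := .of_algebraMap_eq' φ.comp_algebraMap.symm
  have hmbc : Function.Bijective (mapBaseChange C P L) := by
    let e := ((mvPolynomialBasis C ι).baseChange L).equiv β (Equiv.refl ι)
    have : mapBaseChange C P L = e.toLinearMap := by
      refine ((mvPolynomialBasis C ι).baseChange L).ext fun i => ?_
      rw [LinearEquiv.coe_coe, Module.Basis.equiv_apply, Equiv.refl_apply, hβ,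
        Module.Basis.baseChange_apply, mvPolynomialBasis_apply, mapBaseChange_tmul, one_smul, map_D]
      change D C L (φ (MvPolynomial.X i)) = _
      rw [MvPolynomial.aeval_X]
    rw [this]
    exact e.bijective
  haveI := formallyEtale_of_mapBaseChange_bijective' hmbc
  haveI : Algebra.FinitePresentation P L :=
    Algebra.FinitePresentation.of_restrict_scalars_finitePresentation C P L
  haveI : Algebra.Etale P L := ⟨inferInstance, inferInstance⟩
  let I : Ideal P := Ideal.span (Set.range MvPolynomial.X)
  refine ⟨I.map (algebraMap P L), ?_, ?_⟩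
  · rw [Ideal.map_span, Ideal.span_le]
    rintro _ ⟨_, ⟨i, rfl⟩, rfl⟩
    show φ (MvPolynomial.X i) ∈ _
    rw [MvPolynomial.aeval_X]
    exact Ideal.mem_map_of_mem _ (haJ i)
  have hbijI : Function.Bijective (algebraMap C (P ⧸ I)) := by
    have hker : ∀ q ∈ I, MvPolynomial.constantCoeff q = 0 := fun q hq => by
      have : I ≤ RingHom.ker (MvPolynomial.constantCoeff : P →+* C) := by
        rw [Ideal.span_le]
        rintro _ ⟨i, rfl⟩
        exact MvPolynomial.constantCoeff_X C i
      exact this hq
    refine ⟨(injective_iff_map_eq_zero _).2 fun c hc => ?_, fun q => ?_⟩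
    · have := hker _ (Ideal.Quotient.eq_zero_iff_mem.1 (show Ideal.Quotient.mk I (MvPolynomial.C c) = 0 from hc))
      rwa [MvPolynomial.constantCoeff_C] at this
    · obtain ⟨q, rfl⟩ := Ideal.Quotient.mk_surjective q
      refine ⟨MvPolynomial.constantCoeff q, ?_⟩
      show Ideal.Quotient.mk I (MvPolynomial.C (MvPolynomial.constantCoeff q)) = _
      induction q using MvPolynomial.induction_on with
      | C c => rw [MvPolynomial.constantCoeff_C]
      | add p q hp hq => rw [map_add, map_add, map_add, hp, hq, map_add]
      | mul_X p i hp =>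
        rw [map_mul, MvPolynomial.constantCoeff_X, mul_zero, map_zero, map_zero, map_mul,
          Ideal.Quotient.eq_zero_iff_mem.2 (Ideal.subset_span ⟨i, rfl⟩ : MvPolynomial.X i ∈ I), mul_zero]
  haveI : Algebra.Etale C (P ⧸ I) :=
    Algebra.Etale.of_equiv (AlgEquiv.ofBijective (Algebra.ofId C (P ⧸ I)) hbijI)
  haveI : Algebra.Etale C ((P ⧸ I) ⊗[P] L) := Algebra.Etale.comp C (P ⧸ I) _
  let e := (Algebra.TensorProduct.comm P (P ⧸ I) L).toRingEquiv.trans
    (Algebra.TensorProduct.quotIdealMapEquivTensorQuot L I).symm.toRingEquiv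
  refine Algebra.Etale.of_equiv (R := C) (A := (P ⧸ I) ⊗[P] L) (AlgEquiv.ofRingEquiv (R := C) (A₁ := (P ⧸ I) ⊗[P] L) (f := e) fun c => ?_)
  show (Algebra.TensorProduct.quotIdealMapEquivTensorQuot L I).symm
    (Algebra.TensorProduct.comm P (P ⧸ I) L (algebraMap C (P ⧸ I) c ⊗ₜ 1)) = _
  rw [Algebra.TensorProduct.comm_tmul]
  apply (Algebra.TensorProduct.quotIdealMapEquivTensorQuot L I).injective
  rw [AlgEquiv.apply_symm_apply, IsScalarTower.algebraMap_apply C L (L ⧸ I.map (algebraMap P L)),
    Ideal.Quotient.algebraMap_eq, Algebra.TensorProduct.quotIdealMapEquivTensorQuot_mk,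
    IsScalarTower.algebraMap_apply C P L, IsScalarTower.algebraMap_apply C P (P ⧸ I),
    Algebra.algebraMap_eq_smul_one (A := L), TensorProduct.smul_tmul, ← Algebra.algebraMap_eq_smul_one]

theorem main (J : Ideal B)
    (hsurj : Function.Surjective ((Ideal.Quotient.mk J).comp (algebraMap C B)))
    (x : PrimeSpectrum (B ⧸ J)) :
    ∃ f : B, Ideal.Quotient.mk J f ∉ x.asIdeal ∧
      ∃ J₀ : Ideal (Localization.Away f), J₀ ≤ J.map (algebraMap B (Localization.Away f)) ∧
        ((Ideal.Quotient.mk J₀).comp ((algebraMap B (Localization.Away f)).comp (algebraMap C B))).Etale := by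
  obtain ⟨g, hg, J₀, hJ₀, het⟩ := exists_away_quotient_etale J hsurj (x.asIdeal.comap (Ideal.Quotient.mk J))
  refine ⟨g, hg, J₀, hJ₀, ?_⟩
  rw [show (Ideal.Quotient.mk J₀).comp ((algebraMap B (Localization.Away g)).comp (algebraMap C B)) =
    algebraMap C (Localization.Away g ⧸ J₀) from RingHom.ext fun c => by
      rw [RingHom.comp_apply, RingHom.comp_apply, ← IsScalarTower.algebraMap_apply]; rfl]
  exact RingHom.etale_algebraMap.2 het

end Groth.Calg71
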