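import Groth.Agent.VarietyBC.TensorAlgClosed
import Mathlib

/-! Geometrically irreducible polynomials. -/

set_option autoImplicit false
set_option backward.isDefEq.respectTransparency false
set_option backward.isDefEq.respectTransparency.types false

universe u

open TensorProduct CategoryTheory AlgebraicGeometry

namespace Groth.Calg71

variable {k : Type u} [Field k]

theorem isIntegral_of_iso {X Y : Scheme.{u}} (e : X ≅ Y) [IsIntegral X] : IsIntegral Y := by
  haveI : Nonempty Y := Nonempty.map e.hom.base inferInstance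
  exact isIntegral_of_isOpenImmersion e.inv

theorem geometricallyIntegral_Spec_iff (R : Type u) [CommRing R] [Algebra k R] :
    GeometricallyIntegral (Spec.map (CommRingCat.ofHom (algebraMap k R))) ↔
      ∀ (K : Type u) [Field K] [Algebra k K], IsDomain (K ⊗[k] R) := by
  rw [geometricallyIntegral_iff, geometrically_iff_of_commRing]
  constructor
  · intro h K _ _
    haveI := h _ _ (IsPullback.of_hasPullback (Spec.map (CommRingCat.ofHom (algebraMap k R)))
      (Spec.map (CommRingCat.ofHom (algebraMap k K))))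
    haveI := isIntegral_of_iso (pullbackSpecIso k R K)
    haveI : IsDomain (R ⊗[k] K) := (affine_isIntegral_iff _).1 this
    exact MulEquiv.isDomain (R ⊗[k] K) (Algebra.TensorProduct.comm k K R).toMulEquiv
  · intro h K _ _ Y fst snd hp
    haveI := h K
    haveI : IsDomain (R ⊗[k] K) := MulEquiv.isDomain (K ⊗[k] R) (Algebra.TensorProduct.comm k R K).toMulEquiv
    haveI : IsIntegral (Spec (CommRingCat.of (R ⊗[k] K))) := (affine_isIntegral_iff _).2 inferInstance
    haveI := isIntegral_of_iso (pullbackSpecIso k R K).symm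
    exact isIntegral_of_iso hp.isoPullback.symm

theorem isDomain_tensor_of_isAlgClosed_base (Ω : Type u) [Field Ω] [Algebra k Ω] [IsAlgClosed Ω]
    (R : Type u) [CommRing R] [Algebra k R] [IsDomain (Ω ⊗[k] R)] (K : Type u) [Field K] [Algebra k K] :
    IsDomain (K ⊗[k] R) := by
  haveI : Nontrivial (K ⊗[k] Ω) :=
    (Algebra.TensorProduct.includeLeft_injective (R := k) (S := k) (A := K) (B := Ω)
      (algebraMap k Ω).injective).nontrivial
  obtain ⟨m, hm⟩ := Ideal.exists_maximal (K ⊗[k] Ω)
  letI := Ideal.Quotient.field m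
  let L := AlgebraicClosure ((K ⊗[k] Ω) ⧸ m)
  let j : (K ⊗[k] Ω) →ₐ[k] L :=
    (IsScalarTower.toAlgHom k ((K ⊗[k] Ω) ⧸ m) L).comp (Ideal.Quotient.mkₐ k m)
  let iK : K →ₐ[k] L := j.comp Algebra.TensorProduct.includeLeft
  let iΩ : Ω →ₐ[k] L := j.comp Algebra.TensorProduct.includeRight
  letI : Algebra Ω L := iΩ.toRingHom.toAlgebra
  haveI : IsScalarTower k Ω L := IsScalarTower.of_algebraMap_eq fun c => (iΩ.commutes c).symm
  haveI : IsDomain (L ⊗[Ω] (Ω ⊗[k] R)) := Groth.VarietyBC.isDomain_tensor
  haveI : IsDomain (L ⊗[k] R) :=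
    (Algebra.TensorProduct.cancelBaseChange k Ω Ω L R).symm.toMulEquiv.isDomain _
  have hinj : Function.Injective (Algebra.TensorProduct.map iK (AlgHom.id k R)) :=
    Module.Flat.rTensor_preserves_injective_linearMap (M := R) iK.toLinearMap iK.toRingHom.injective
  exact hinj.isDomain (Algebra.TensorProduct.map iK (AlgHom.id k R)).toRingHom

variable {n : ℕ} (F : MvPolynomial (Fin n) k)

/-- Base change of the coordinate ring of a hypersurface. -/
noncomputable def quotTensorEquiv (K : Type u) [Field K] [Algebra k K] :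
    K ⊗[k] (MvPolynomial (Fin n) k ⧸ Ideal.span ({F} : Set (MvPolynomial (Fin n) k))) ≃+*
      MvPolynomial (Fin n) K ⧸ Ideal.span ({MvPolynomial.map (algebraMap k K) F} : Set (MvPolynomial (Fin n) K)) :=
  (Algebra.TensorProduct.tensorQuotientEquiv (R := k) K (MvPolynomial (Fin n) k) K (Ideal.span {F})).toRingEquiv.trans
    (Ideal.quotientEquiv _ _ (MvPolynomial.algebraTensorAlgEquiv k K).toRingEquiv (by
      rw [Ideal.map_span, Set.image_singleton, Ideal.map_span, Set.image_singleton]
      congr 2
      show _ = MvPolynomial.algebraTensorAlgEquiv k K ((1 : K) ⊗ₜ F)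
      rw [MvPolynomial.algebraTensorAlgEquiv_tmul, one_smul]))

theorem isDomain_tensor_iff_irreducible (hF : F ≠ 0) (K : Type u) [Field K] [Algebra k K] :
    IsDomain (K ⊗[k] (MvPolynomial (Fin n) k ⧸ Ideal.span ({F} : Set (MvPolynomial (Fin n) k)))) ↔
      Irreducible (MvPolynomial.map (algebraMap k K) F) := by
  have hF' : MvPolynomial.map (algebraMap k K) F ≠ 0 := fun h =>
    hF (MvPolynomial.map_injective (algebraMap k K) (algebraMap k K).injective (h.trans (map_zero _).symm))
  rw [UniqueFactorizationMonoid.irreducible_iff_prime, ← Ideal.span_singleton_prime hF',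
    ← Ideal.Quotient.isDomain_iff_prime]
  exact ⟨fun h => @MulEquiv.isDomain _ _ _ _ h (quotTensorEquiv F K).symm.toMulEquiv,
    fun h => @MulEquiv.isDomain _ _ _ _ h (quotTensorEquiv F K).toMulEquiv⟩

theorem geomIrreducible_tfae (Ω : Type u) [Field Ω] [Algebra k Ω] [IsAlgClosed Ω] (hF : 0 < F.totalDegree) :
    List.TFAE [
      GeometricallyIntegral (Spec.map (CommRingCat.ofHom
        (algebraMap k (MvPolynomial (Fin n) k ⧸ Ideal.span ({F} : Set (MvPolynomial (Fin n) k)))))),
      ∀ (K : Type u) [Field K] [Algebra k K], Irreducible (MvPolynomial.map (algebraMap k K) F),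
      Irreducible (MvPolynomial.map (algebraMap k Ω) F)] := by
  have hF0 : F ≠ 0 := fun h => by simp [h] at hF
  tfae_have 1 → 2 := fun h K _ _ =>
    (isDomain_tensor_iff_irreducible F hF0 K).1 ((geometricallyIntegral_Spec_iff _).1 h K)
  tfae_have 2 → 3 := fun h => h Ω
  tfae_have 3 → 1 := fun h => (geometricallyIntegral_Spec_iff _).2 fun K _ _ => by
    haveI := (isDomain_tensor_iff_irreducible F hF0 Ω).2 h
    exact isDomain_tensor_of_isAlgClosed_base Ω _ K
  tfae_finish

end Groth.Calg71
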