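import Groth.Agent.EGA41Two.GrLength
import Mathlib.RingTheory.Kaehler.Basic
import Mathlib.Algebra.MvPolynomial.PDeriv

/-!
A local algebra over a field of characteristic zero with rational residue field and free differentials is regular.
-/

set_option autoImplicit false
set_option backward.isDefEq.respectTransparency false
set_option backward.isDefEq.respectTransparency.types false
set_option linter.style.haveILetI false

universe u

open IsLocalRing MvPolynomial

namespace Groth.Calg71

variable {k R : Type u} [Field k] [CommRing R] [Algebra k R] [IsLocalRing R]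

theorem exists_sub_mem (hres : Function.Surjective (algebraMap k (ResidueField R))) (r : R) :
    ∃ c : k, r - algebraMap k R c ∈ maximalIdeal R := by
  obtain ⟨c, hc⟩ := hres (residue R r)
  refine ⟨c, (residue_eq_zero_iff _).mp ?_⟩
  rw [map_sub, ← IsLocalRing.ResidueField.algebraMap_eq, ← IsScalarTower.algebraMap_apply k R (ResidueField R), hc,
    IsLocalRing.ResidueField.algebraMap_eq, sub_self]

/-- The differential detects the cotangent space when the residue field is rational. -/
theorem mem_sq_of_D_mem (hres : Function.Surjective (algebraMap k (ResidueField R))) (z : R)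
    (hz : z ∈ maximalIdeal R)
    (hD : KaehlerDifferential.D k R z ∈ (maximalIdeal R • ⊤ : Submodule R (KaehlerDifferential k R))) :
    z ∈ maximalIdeal R ^ 2 := by
  choose π hπ using exists_sub_mem (k := k) hres
  have huniq : ∀ r c, r - algebraMap k R c ∈ maximalIdeal R → π r = c := fun r c h => by
    have h' := sub_mem h (hπ r)
    rw [sub_sub_sub_cancel_left, ← map_sub] at h'
    by_contra hne
    exact (maximalIdeal.isMaximal R).ne_top
      (Ideal.eq_top_of_isUnit_mem _ h' ((isUnit_iff_ne_zero.mpr (sub_ne_zero.mpr hne)).map _))
  let δ : R → (maximalIdeal R).Cotangent := fun r => (maximalIdeal R).toCotangent ⟨r - algebraMap k R (π r), hπ r⟩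
  let d : Derivation k R (maximalIdeal R).Cotangent := Derivation.mk'
    { toFun := δ
      map_add' := fun a b => by
        have h : π (a + b) = π a + π b := huniq _ _ (by rw [map_add, add_sub_add_comm]; exact add_mem (hπ a) (hπ b))
        simp only [δ, ← map_add]
        congr 1
        exact Subtype.ext (by simp [h]; ring)
      map_smul' := fun c a => by
        have h : π (c • a) = c * π a := huniq _ _ (by
          rw [map_mul, Algebra.smul_def, ← mul_sub]; exact Ideal.mul_mem_left _ _ (hπ a))
        simp only [δ, RingHom.id_apply]
        rw [← algebraMap_smul R c ((maximalIdeal R).toCotangent _), ← map_smul]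
        congr 1
        refine Subtype.ext ?_
        show c • a - algebraMap k R (π (c • a)) = algebraMap k R c * (a - algebraMap k R (π a))
        rw [h, map_mul, Algebra.smul_def]; ring }
    fun a b => by
      have h : π (a * b) = π a * π b := huniq _ _ (by
        rw [map_mul, show a * b - algebraMap k R (π a) * algebraMap k R (π b) =
          a * (b - algebraMap k R (π b)) + algebraMap k R (π b) * (a - algebraMap k R (π a)) by ring]
        exact add_mem (Ideal.mul_mem_left _ _ (hπ b)) (Ideal.mul_mem_left _ _ (hπ a)))
      show δ (a * b) = a • δ b + b • δ a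
      simp only [δ, ← map_smul, ← map_add]
      rw [Ideal.toCotangent_eq]
      have hmem := Submodule.mul_mem_mul (hπ a) (hπ b)
      rw [← pow_two] at hmem
      rw [← neg_mem_iff] at hmem
      convert hmem using 1
      simp only [Submodule.coe_add, SetLike.val_smul, smul_eq_mul, h, map_mul]
      ring
  have h0 : ∀ w ∈ (maximalIdeal R • ⊤ : Submodule R (KaehlerDifferential k R)), d.liftKaehlerDifferential w = 0 := by
    intro w hw
    refine Submodule.smul_induction_on hw (fun r hr v _ => ?_) (fun a b ha hb => by rw [map_add, ha, hb, add_zero])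
    rw [map_smul]
    obtain ⟨⟨y, hy⟩, hy'⟩ := (maximalIdeal R).toCotangent_surjective (d.liftKaehlerDifferential v)
    rw [← hy', ← map_smul, Ideal.toCotangent_eq_zero, pow_two]
    exact Submodule.mul_mem_mul hr hy
  have hπz : π z = 0 := huniq z 0 (by rw [map_zero, sub_zero]; exact hz)
  have hdz : δ z = 0 := by
    have := h0 _ hD
    rwa [Derivation.liftKaehlerDifferential_comp_D] at this
  simpa [δ, hπz, Ideal.toCotangent_eq_zero] using hdz

/-- Generators of the maximal ideal whose differentials form a basis. -/
theorem exists_coordinates [IsNoetherianRing R] (hres : Function.Surjective (algebraMap k (ResidueField R)))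
    (n : ℕ) (e : KaehlerDifferential k R ≃ₗ[R] (Fin n → R)) :
    ∃ (x : Fin n → R) (D : Fin n → Derivation k R R), Ideal.span (Set.range x) = maximalIdeal R ∧
      ∀ i j, D i (x j) = if i = j then 1 else 0 := by
  classical
  let F := ResidueField R
  let v : maximalIdeal R → (Fin n → F) := fun x j => residue R (e (KaehlerDifferential.D k R x) j)
  have hspan : Submodule.span F (Set.range v) = ⊤ := by
    refine eq_top_iff.2 fun w _ => ?_
    choose w' hw' using fun j => residue_surjective (R := R) (w j)
    have hmem : ∀ ω : KaehlerDifferential k R, (fun j => residue R (e ω j)) ∈ Submodule.span F (Set.range v) := by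
      intro ω
      have hω : ω ∈ Submodule.span R (Set.range (KaehlerDifferential.D k R)) := by
        rw [KaehlerDifferential.span_range_derivation]; trivial
      induction hω using Submodule.span_induction with
      | mem ω hω =>
        obtain ⟨r, rfl⟩ := hω
        obtain ⟨c, hc⟩ := exists_sub_mem (k := k) hres r
        refine Submodule.subset_span ⟨⟨_, hc⟩, funext fun j => ?_⟩
        simp [v, map_sub, Derivation.map_algebraMap]
      | zero =>
        convert (Submodule.span F (Set.range v)).zero_mem using 1
        funext j; simp
      | add a b _ _ ha hb =>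
        convert add_mem ha hb using 1
        funext j; simp
      | smul r a _ ha =>
        convert Submodule.smul_mem _ (residue R r) ha using 1
        funext j; simp
    have := hmem (e.symm w')
    simpa [hw'] using this
  obtain ⟨S, hSsub, hSspan, hSind⟩ := exists_linearIndependent F (Set.range v)
  rw [hspan] at hSspan
  let bS := Module.Basis.mk hSind (by rw [Subtype.range_coe, hSspan])
  haveI : Fintype S := FiniteDimensional.fintypeBasisIndex bS
  have hcard : Fintype.card S = n := by
    rw [← Module.finrank_eq_card_basis bS, Module.finrank_fin_fun]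
  let b := bS.reindex ((Fintype.equivFin S).trans (finCongr hcard))
  have hb : ∀ i, ∃ x : maximalIdeal R, v x = b i := fun i => by
    obtain ⟨x, hx⟩ := hSsub ((((Fintype.equivFin S).trans (finCongr hcard)).symm i)).2
    exact ⟨x, by simp [b, bS, hx]⟩
  choose x hx using hb
  let Φ : (Fin n → R) →ₗ[R] KaehlerDifferential k R :=
    Fintype.linearCombination R fun i => KaehlerDifferential.D k R (x i : R)
  have hΦsurj : Function.Surjective Φ := by
    rw [← LinearMap.range_eq_top]
    haveI : Module.Finite R (KaehlerDifferential k R) := Module.Finite.equiv e.symm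
    refine top_le_iff.1 (Submodule.le_of_le_smul_of_le_jacobson_bot (I := maximalIdeal R) Module.Finite.fg_top
      (IsLocalRing.maximalIdeal_le_jacobson _) fun ω _ => ?_)
    choose c hc using fun i => residue_surjective (R := R) (b.repr (fun j => residue R (e ω j)) i)
    refine Submodule.mem_sup.2 ⟨Φ c, ⟨c, rfl⟩, ω - Φ c, ?_, add_sub_cancel _ _⟩
    have hzero : ∀ j, e (ω - Φ c) j ∈ maximalIdeal R := by
      intro j
      rw [← residue_eq_zero_iff, map_sub, Pi.sub_apply, map_sub, sub_eq_zero]
      have h2 := congrFun (b.sum_repr (fun j => residue R (e ω j))) j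
      rw [← h2]
      simp [Φ, Fintype.linearCombination_apply, Finset.sum_apply, hc, ← hx, v]
    have : e (ω - Φ c) ∈ (maximalIdeal R • ⊤ : Submodule R (Fin n → R)) := by
      rw [pi_eq_sum_univ' (e (ω - Φ c))]
      exact sum_mem fun j _ => Submodule.smul_mem_smul (hzero j) trivial
    have h3 := Submodule.mem_map_of_mem (f := e.symm.toLinearMap) this
    rw [Submodule.map_smul''] at h3
    refine Submodule.smul_mono (N := Submodule.map e.symm.toLinearMap ⊤) le_rfl le_top ?_
    simpa using h3
  have hΦ : Function.Bijective Φ := by
    refine ⟨?_, hΦsurj⟩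
    have : Function.Injective (e.toLinearMap.comp Φ) :=
      OrzechProperty.injective_of_surjective_endomorphism _ (e.surjective.comp hΦsurj)
    exact Function.Injective.of_comp this
  let E := LinearEquiv.ofBijective Φ hΦ
  let D : Fin n → Derivation k R R := fun i =>
    ((LinearMap.proj i).comp E.symm.toLinearMap).compDer (KaehlerDifferential.D k R)
  refine ⟨fun i => x i, D, ?_, fun i j => ?_⟩
  · refine le_antisymm (Ideal.span_le.mpr (by rintro _ ⟨i, rfl⟩; exact (x i).2)) ?_
    refine Submodule.le_of_le_smul_of_le_jacobson_bot (IsNoetherian.noetherian _)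
      (IsLocalRing.maximalIdeal_le_jacobson _) fun y hy => ?_
    choose c hc using fun i => exists_sub_mem (k := k) hres (E.symm (KaehlerDifferential.D k R y) i)
    let z := y - ∑ i, algebraMap k R (c i) * (x i : R)
    have hz : z ∈ maximalIdeal R := sub_mem hy (sum_mem fun i _ => Ideal.mul_mem_left _ _ (x i).2)
    have hDz : KaehlerDifferential.D k R z ∈ (maximalIdeal R • ⊤ : Submodule R (KaehlerDifferential k R)) := by
      have h1 : KaehlerDifferential.D k R y = Φ (E.symm (KaehlerDifferential.D k R y)) :=
        (E.apply_symm_apply _).symm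
      have h2 : KaehlerDifferential.D k R z =
          Φ (fun i => E.symm (KaehlerDifferential.D k R y) i - algebraMap k R (c i)) := by
        simp only [z, map_sub, map_sum, Derivation.leibniz, Derivation.map_algebraMap, smul_zero, add_zero]
        nth_rewrite 1 [h1]
        simp only [Φ, Fintype.linearCombination_apply, sub_smul, Finset.sum_sub_distrib]
      rw [h2, Fintype.linearCombination_apply]
      exact sum_mem fun i _ => Submodule.smul_mem_smul (hc i) trivial
    refine Submodule.mem_sup.2 ⟨∑ i, algebraMap k R (c i) * (x i : R), sum_mem fun i _ =>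
      Ideal.mul_mem_left _ _ (Ideal.subset_span ⟨i, rfl⟩), z, ?_, add_sub_cancel _ _⟩
    rw [smul_eq_mul, ← pow_two]
    exact mem_sq_of_D_mem hres z hz hDz
  · have : E.symm (KaehlerDifferential.D k R (x j : R)) = Pi.single j 1 := by
      rw [E.symm_apply_eq]
      simp [E, Φ]
    show E.symm (KaehlerDifferential.D k R (x j : R)) i = _
    rw [this, Pi.single_apply]

omit [IsLocalRing R] in
theorem derivation_pow_mem (D : Derivation k R R) (I : Ideal R) (m : ℕ) {a : R} (ha : a ∈ I ^ (m + 1)) :
    D a ∈ I ^ m := by
  induction m generalizing a with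
  | zero => simp
  | succ m ih =>
    rw [pow_succ'] at ha
    refine Submodule.mul_induction_on ha (fun y hy z hz => ?_) (fun p q hp hq => by rw [map_add]; exact add_mem hp hq)
    rw [Derivation.leibniz, smul_eq_mul, smul_eq_mul]
    refine add_mem ?_ (Ideal.mul_mem_right _ _ hz)
    rw [pow_succ']
    exact Ideal.mul_mem_mul hy (ih hz)

omit [IsLocalRing R] in
theorem derivation_aeval {n : ℕ} (x : Fin n → R) (D : Derivation k R R) (i : Fin n)
    (hD : ∀ j, D (x j) = if i = j then 1 else 0) (P : MvPolynomial (Fin n) ℤ) :
    D (aeval x P) = aeval x (pderiv i P) := by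
  induction P using MvPolynomial.induction_on with
  | C a => simp
  | add p q hp hq => simp [hp, hq]
  | mul_X p j hp =>
    simp only [map_mul, aeval_X, Derivation.leibniz, pderiv_mul, pderiv_X, map_add, smul_eq_mul, hp, hD]
    rcases eq_or_ne i j with rfl | hne
    · simp
    · simp [hne, Pi.single_eq_of_ne hne.symm]

theorem isQuasiRegular_of_derivations [CharZero k] {n : ℕ} (x : Fin n → R) (D : Fin n → Derivation k R R)
    (hspan : Ideal.span (Set.range x) = maximalIdeal R)
    (hD : ∀ i j, D i (x j) = if i = j then 1 else 0) : CAlgX.IsQuasiRegular x := by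
  classical
  intro N
  induction N with
  | zero =>
    intro P hP h d
    by_cases hd : d = 0
    · subst hd
      rw [zero_add, pow_one] at h
      have hPC : P = C (P.coeff 0) :=
        totalDegree_eq_zero_iff_eq_C.1 (Nat.le_zero.1 hP.totalDegree_le)
      rw [hPC, eval_C] at h
      exact h
    · rw [hP.coeff_eq_zero (fun hz => hd ((Finsupp.degree_eq_zero_iff d).1 hz))]
      exact zero_mem _
  | succ N ih =>
    intro P hP h d
    rw [hspan] at h ih ⊢
    by_cases hc : P.coeff d = 0
    · rw [hc]; exact zero_mem _
    have hdeg : d.degree = N + 1 := by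
      by_contra hne
      exact hc (hP.coeff_eq_zero hne)
    obtain ⟨i, hi⟩ : ∃ i, d i ≠ 0 := by
      by_contra hall
      simp only [not_exists, ne_eq, not_not] at hall
      rw [show d = 0 from Finsupp.ext hall, map_zero] at hdeg
      omega
    have key : eval x (pderiv i P) ∈ maximalIdeal R ^ (N + 1) := by
      have h1 : ∀ e, D i (eval x (monomial e (P.coeff e))) - eval x (pderiv i (monomial e (P.coeff e))) =
          D i (P.coeff e) * eval x (monomial e 1) := fun e => by
        have h2 := derivation_aeval x (D i) i (hD i) (monomial e 1)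
        rw [pderiv_monomial, aeval_monomial, aeval_monomial, map_one, one_mul, one_mul] at h2
        rw [pderiv_monomial, eval_monomial, eval_monomial, eval_monomial, Derivation.leibniz, h2, one_mul,
          smul_eq_mul, smul_eq_mul]
        simp only [map_natCast]
        ring
      have h3 : ∀ e ∈ P.support, eval x (monomial e (1 : R)) ∈ maximalIdeal R ^ (N + 1) := fun e he => by
        have h4 := Groth.EGA41Two.eval_mem_pow x (Groth.EGA41Two.isForm_self
          (isHomogeneous_monomial (1 : R) (n := N + 1) (by
            rw [← hP (mem_support_iff.mp he)]; exact congrFun (congrArg _ Finsupp.degree_eq_weight_one) e)))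
        rwa [Groth.EGA41Two.headSpan_self, hspan] at h4
      have heq : eval x (pderiv i P) = D i (eval x P) -
          ∑ e ∈ P.support, D i (P.coeff e) * eval x (monomial e 1) := by
        simp only [← h1, Finset.sum_sub_distrib]
        rw [← map_sum, ← map_sum, ← map_sum, ← map_sum, ← P.as_sum, sub_sub_cancel]
      rw [heq]
      exact sub_mem (derivation_pow_mem (D i) _ _ h)
        (sum_mem fun e he => Ideal.mul_mem_left _ _ (h3 e he))
    have h5 := ih (pderiv i P) hP.pderiv key (d - Finsupp.single i 1)
    rw [coeff_pderiv] at h5
    have hle : Finsupp.single i 1 ≤ d := Finsupp.single_le_iff.2 (Nat.pos_of_ne_zero hi)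
    rw [tsub_add_cancel_of_le hle] at h5
    have hu : IsUnit ((((d - Finsupp.single i 1 : Fin n →₀ ℕ) i : ℕ) : R) + 1) := by
      have : (((d - Finsupp.single i 1 : Fin n →₀ ℕ) i : ℕ) : k) + 1 ≠ 0 := Nat.cast_add_one_ne_zero _
      simpa using (isUnit_iff_ne_zero.mpr this).map (algebraMap k R)
    exact (Ideal.mul_unit_mem_iff_mem _ hu).1 h5

theorem main [CharZero k] [IsNoetherianRing R] (hres : Function.Surjective (algebraMap k (ResidueField R)))
    (n : ℕ) (e : KaehlerDifferential k R ≃ₗ[R] (Fin n → R)) :
    IsRegularLocalRing R ∧ ringKrullDim R = n := by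
  obtain ⟨x, D, hspan, hD⟩ := exists_coordinates hres n e
  have hq := isQuasiRegular_of_derivations x D hspan hD
  have hx : ∀ i, x i ∈ maximalIdeal R := fun i => hspan ▸ Ideal.subset_span ⟨i, rfl⟩
  have hI : Ideal.ofList (List.ofFn x) = maximalIdeal R := by
    rw [← hspan]; exact congrArg Ideal.span (Set.ext fun a => by simp [List.mem_ofFn])
  have hreg : RingTheory.Sequence.IsRegular R (List.ofFn x) := by
    refine ⟨Groth.EGA41Two.isWeaklyRegular_of_isQuasiRegular _ R x (fun i => ?_) hq, ?_⟩
    · rw [IsLocalRing.ringJacobson_eq_maximalIdeal]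
      exact hx i
    · intro h
      rw [smul_eq_mul, Ideal.mul_top, hI] at h
      exact (maximalIdeal.isMaximal R).ne_top h.symm
  have hdim := ringKrullDim_add_length_eq_ringKrullDim_of_isRegular (List.ofFn x) hreg
  have h0 : ringKrullDim (R ⧸ Ideal.ofList (List.ofFn x)) = 0 := by
    rw [hI]
    exact ringKrullDim_eq_zero_of_isField
      ((Ideal.Quotient.maximal_ideal_iff_isField_quotient _).mp inferInstance)
  rw [h0, zero_add, List.length_ofFn] at hdim
  refine ⟨IsRegularLocalRing.of_spanFinrank_maximalIdeal_le R ?_, hdim.symm⟩
  rw [← hdim, ← hspan]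
  refine Nat.cast_le.2 ((Submodule.spanFinrank_span_le_ncard_of_finite (Set.finite_range x)).trans ?_)
  rw [← Set.image_univ]
  exact (Set.ncard_image_le Set.finite_univ).trans (by simp)

end Groth.Calg71
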