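import Groth.Agent.Calg6.CompleteLocal

/-! Regularity of a complete local algebra via infinitesimal lifting. -/

set_option autoImplicit false
set_option maxHeartbeats 1000000

universe u

open MvPowerSeries Groth.SGA7.PS IsLocalRing

namespace Groth.Calg71

variable {k : Type u} [Field k] {d : ℕ}

local notation "PS" => MvPowerSeries (Fin d) k

theorem algHom_ext_of_X {S : Type u} [CommRing S] [Algebra k S] (f g : PS →ₐ[k] S)
    (h : ∀ i, f (X i) = g (X i)) (n : ℕ) (hn : ∀ p ∈ varIdeal (Fin d) k ^ n, f p = 0 ∧ g p = 0) :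
    f = g := by
  refine AlgHom.ext fun p => ?_
  have hpoly : f.comp (MvPolynomial.coeToMvPowerSeries.algHom (σ := Fin d) (R := k) k) =
      g.comp (MvPolynomial.coeToMvPowerSeries.algHom (σ := Fin d) (R := k) k) :=
    MvPolynomial.algHom_ext fun i => by simpa using h i
  let t : PS := MvPolynomial.coeToMvPowerSeries.algHom (σ := Fin d) (R := k) k (truncTotal n p)
  have hm : p - t ∈ varIdeal (Fin d) k ^ n := mem_varIdeal_pow n _ fun e he => by
    simp [t, coeff_truncTotal _ he]
  obtain ⟨h1, h2⟩ := hn _ hm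
  rw [map_sub, sub_eq_zero] at h1 h2
  rw [h1, h2]
  exact DFunLike.congr_fun hpoly (truncTotal n p)

theorem exists_lift_algHom {R : Type u} [CommRing R] [Algebra k R] [IsArtinianRing R] [IsLocalRing R]
    (J : Ideal R) (hJ : J ^ 2 = ⊥) (f : PS →ₐ[k] R ⧸ J) [IsLocalHom (f : PS →+* R ⧸ J)] :
    ∃ g : PS →ₐ[k] R, (Ideal.Quotient.mkₐ k J).comp g = f := by
  obtain ⟨n, hn⟩ := (isArtinianRing_iff_isNilpotent_maximalIdeal R).1 inferInstance
  haveI : Nontrivial (R ⧸ J) := Ideal.Quotient.nontrivial_iff.2 fun h => by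
    rw [h, Ideal.top_pow] at hJ; exact top_ne_bot hJ
  choose r hr using fun i => Ideal.Quotient.mk_surjective (I := J) (f (X i))
  have hrm : ∀ i, r i ∈ maximalIdeal R := fun i => by
    rw [mem_maximalIdeal, mem_nonunits_iff]
    intro hu
    have h1 : IsUnit (f (X i)) := hr i ▸ hu.map (Ideal.Quotient.mk J)
    have h2 : IsUnit (X i : PS) := (isUnit_map_iff (f : PS →+* R ⧸ J) _).1 h1
    rw [isUnit_iff_constantCoeff, constantCoeff_X] at h2
    exact not_isUnit_zero h2
  haveI : IsAdicComplete (maximalIdeal R) R := inferInstance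
  let g : PS →ₐ[k] R := Groth.Calg6.evalAdic (maximalIdeal R) r hrm
  refine ⟨g, algHom_ext_of_X _ _ (fun i => ?_) n fun p hp => ⟨?_, ?_⟩⟩
  · show Ideal.Quotient.mk J (g (X i)) = _
    rw [Groth.Calg6.evalAdic_X, hr]
  · have hle : (varIdeal (Fin d) k).map (g : PS →+* R) ≤ maximalIdeal R := by
      rw [varIdeal, Ideal.map_span, Ideal.span_le]
      rintro _ ⟨_, ⟨i, rfl⟩, rfl⟩
      show g (X i) ∈ _
      rw [Groth.Calg6.evalAdic_X]; exact hrm i
    have := Ideal.mem_map_of_mem (g : PS →+* R) hp
    rw [Ideal.map_pow] at this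
    have h0 : g p ∈ maximalIdeal R ^ n := Ideal.pow_right_mono hle n this
    rw [hn, Ideal.zero_eq_bot, Ideal.mem_bot] at h0
    show Ideal.Quotient.mk J (g p) = 0
    rw [h0, map_zero]
  · have hle : (varIdeal (Fin d) k).map (f : PS →+* R ⧸ J) ≤ (maximalIdeal R).map (Ideal.Quotient.mk J) := by
      rw [varIdeal, Ideal.map_span, Ideal.span_le]
      rintro _ ⟨_, ⟨i, rfl⟩, rfl⟩
      show f (X i) ∈ _
      rw [← hr i]; exact Ideal.mem_map_of_mem _ (hrm i)
    have := Ideal.mem_map_of_mem (f : PS →+* R ⧸ J) hp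
    rw [Ideal.map_pow] at this
    have h0 := Ideal.pow_right_mono hle n this
    rw [← Ideal.map_pow, hn, Ideal.zero_eq_bot, Ideal.map_bot, Ideal.mem_bot] at h0
    exact h0

variable (k) in
/-- Infinitesimal lifting property of a local algebra, tested on Artinian algebras. -/
def HasLifting (A : Type u) [CommRing A] [Algebra k A] : Prop :=
  ∀ (R : Type u) [CommRing R] [Algebra k R] [IsArtinianRing R] [IsLocalRing R] (J : Ideal R),
    J ^ 2 = ⊥ → ∀ f : A →ₐ[k] R ⧸ J, IsLocalHom (f : A →+* R ⧸ J) →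
      ∃ g : A →ₐ[k] R, (Ideal.Quotient.mkₐ k J).comp g = f

theorem injective_of_hasLifting {A : Type u} [CommRing A] [Algebra k A] [IsLocalRing A]
    (ψ : PS →ₐ[k] A) (hsurj : Function.Surjective ψ)
    (hker : RingHom.ker ψ.toRingHom ≤ maximalIdeal PS ^ 2) (hlift : HasLifting k A) :
    Function.Injective ψ := by
  haveI := Groth.Calg6.isRegularLocalRing_mvPowerSeries k d
  let M := maximalIdeal PS
  have hmax : ∀ n, 0 < n → M ^ n ≠ ⊤ := fun n hn h =>
    (maximalIdeal.isMaximal PS).ne_top (top_le_iff.1 (h ▸ Ideal.pow_le_self hn.ne'))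
  -- the section modulo `M ^ 2`
  let g₀ : A →ₐ[k] PS ⧸ M ^ 2 :=
    (Ideal.Quotient.factorₐ k hker).comp (Ideal.quotientKerAlgEquivOfSurjective hsurj).symm.toAlgHom
  have hg₀ : ∀ p, g₀ (ψ p) = Ideal.Quotient.mk _ p := fun p => by
    have : (Ideal.quotientKerAlgEquivOfSurjective hsurj).symm (ψ p) = Ideal.Quotient.mk _ p := by
      rw [AlgEquiv.symm_apply_eq]; rfl
    show Ideal.Quotient.factorₐ k hker ((Ideal.quotientKerAlgEquivOfSurjective hsurj).symm (ψ p)) = _
    rw [this]; rfl
  have hexists : ∀ n, 2 ≤ n → ∃ g : A →ₐ[k] PS ⧸ M ^ n, ∀ p,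
      g (ψ p) - Ideal.Quotient.mk _ p ∈ (M ^ 2).map (Ideal.Quotient.mk (M ^ n)) := by
    intro n hn
    induction n, hn using Nat.le_induction with
    | base => exact ⟨g₀, fun p => by rw [hg₀, sub_self]; exact zero_mem _⟩
    | succ n hn ih =>
      obtain ⟨g, hg⟩ := ih
      haveI : Nontrivial (PS ⧸ M ^ (n + 1)) := Ideal.Quotient.nontrivial_iff.2 (hmax _ (by omega))
      haveI : IsLocalRing (PS ⧸ M ^ (n + 1)) := .of_surjective' _ Ideal.Quotient.mk_surjective
      haveI : IsArtinianRing (PS ⧸ M ^ (n + 1)) := by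
        refine (isArtinianRing_iff_isNilpotent_maximalIdeal _).2 ⟨n + 1, ?_⟩
        rw [← IsLocalRing.map_maximalIdeal_of_surjective _ Ideal.Quotient.mk_surjective,
          ← Ideal.map_pow, Ideal.map_quotient_self, Ideal.zero_eq_bot]
      let π : (PS ⧸ M ^ (n + 1)) →ₐ[k] PS ⧸ M ^ n := Ideal.Quotient.factorₐ k (Ideal.pow_le_pow_right (by omega))
      have hπ : Function.Surjective π := fun y => by
        obtain ⟨p, rfl⟩ := Ideal.Quotient.mk_surjective y
        exact ⟨Ideal.Quotient.mk _ p, rfl⟩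
      have hJ : RingHom.ker π ^ 2 = ⊥ := by
        have hle : RingHom.ker π ≤ (M ^ n).map (Ideal.Quotient.mk (M ^ (n + 1))) := fun y hy => by
          obtain ⟨p, rfl⟩ := Ideal.Quotient.mk_surjective y
          exact Ideal.mem_map_of_mem _ (Ideal.Quotient.eq_zero_iff_mem.1 (show Ideal.Quotient.mk (M ^ n) p = 0 from hy))
        refine le_bot_iff.1 ((Ideal.pow_right_mono hle 2).trans ?_)
        rw [← Ideal.map_pow, ← pow_mul]
        exact (Ideal.map_mono (Ideal.pow_le_pow_right (by omega : n + 1 ≤ n * 2))).trans (Ideal.map_quotient_self _).le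
      let e := Ideal.quotientKerAlgEquivOfSurjective hπ
      let f : A →ₐ[k] (PS ⧸ M ^ (n + 1)) ⧸ RingHom.ker π := e.symm.toAlgHom.comp g
      have hnon : ∀ a, IsUnit (f a) → IsUnit a := fun a ha => by
        obtain ⟨p, rfl⟩ := hsurj a
        have hgu : IsUnit (g (ψ p)) := by
          have := IsUnit.map e ha
          simpa [f] using this
        by_contra hnu
        have hp : p ∈ M := by
          rw [mem_maximalIdeal, mem_nonunits_iff]; exact fun h => hnu (h.map ψ)
        have hgm : g (ψ p) ∈ M.map (Ideal.Quotient.mk (M ^ n)) := by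
          rw [← sub_add_cancel (g (ψ p)) (Ideal.Quotient.mk _ p)]
          exact add_mem (Ideal.map_mono (Ideal.pow_le_self two_ne_zero) (hg p)) (Ideal.mem_map_of_mem _ hp)
        have htop : M.map (Ideal.Quotient.mk (M ^ n)) = ⊤ := Ideal.eq_top_of_isUnit_mem _ hgm hgu
        have := congrArg (Ideal.comap (Ideal.Quotient.mk (M ^ n))) htop
        rw [Ideal.comap_map_of_surjective _ Ideal.Quotient.mk_surjective, ← RingHom.ker_eq_comap_bot,
          Ideal.mk_ker, sup_eq_left.2 (Ideal.pow_le_self (by omega)), Ideal.comap_top] at this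
        exact (maximalIdeal.isMaximal PS).ne_top this
      have hloc : IsLocalHom (f : A →+* (PS ⧸ M ^ (n + 1)) ⧸ RingHom.ker π) := ⟨hnon⟩
      obtain ⟨g', hg'⟩ := hlift _ _ hJ f hloc
      refine ⟨g', fun p => ?_⟩
      have hπg : π (g' (ψ p)) = g (ψ p) := by
        have := congrArg e (DFunLike.congr_fun hg' (ψ p))
        rw [show e (f (ψ p)) = g (ψ p) from e.apply_symm_apply _] at this
        exact this
      obtain ⟨q, hq⟩ := Ideal.Quotient.mk_surjective (g' (ψ p) - Ideal.Quotient.mk (M ^ (n + 1)) p)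
      rw [← hq]
      refine Ideal.mem_map_of_mem _ ?_
      have h2 : Ideal.Quotient.mk (M ^ n) q ∈ (M ^ 2).map (Ideal.Quotient.mk (M ^ n)) := by
        rw [show Ideal.Quotient.mk (M ^ n) q = π (Ideal.Quotient.mk _ q) from rfl, hq, map_sub, hπg]
        exact hg p
      have h3 : q ∈ ((M ^ 2).map (Ideal.Quotient.mk (M ^ n))).comap (Ideal.Quotient.mk (M ^ n)) := h2
      rwa [Ideal.comap_map_of_surjective _ Ideal.Quotient.mk_surjective, ← RingHom.ker_eq_comap_bot,
        Ideal.mk_ker, sup_eq_left.2 (Ideal.pow_le_pow_right hn)] at h3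
  have hmem : ∀ p, ψ p = 0 → ∀ n, p ∈ M ^ n := by
    intro p hp n
    induction n with
    | zero => simp
    | succ n ihn =>
      by_cases hn : n + 1 ≤ 2
      · exact Ideal.pow_le_pow_right hn (hker hp)
      obtain ⟨g, hg⟩ := hexists (n + 1) (by omega)
      let N : Ideal (PS ⧸ M ^ (n + 1)) := M.map (Ideal.Quotient.mk _)
      have claim : ∀ j, ∀ q ∈ M ^ j, g (ψ q) - Ideal.Quotient.mk _ q ∈ N ^ (j + 1) := by
        intro j
        induction j with
        | zero =>
          intro q _
          rw [zero_add, Submodule.pow_one]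
          exact Ideal.map_mono (Ideal.pow_le_self two_ne_zero) (hg q)
        | succ j ih =>
          intro q hq
          rw [pow_succ] at hq
          induction hq using Submodule.mul_induction_on' with
          | mem_mul_mem a ha b hb =>
            have hgb : g (ψ b) ∈ N := by
              rw [← sub_add_cancel (g (ψ b)) (Ideal.Quotient.mk _ b)]
              exact add_mem (Ideal.map_mono (Ideal.pow_le_self two_ne_zero) (hg b)) (Ideal.mem_map_of_mem _ hb)
            have e1 : g (ψ (a * b)) - Ideal.Quotient.mk _ (a * b) =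
                (g (ψ a) - Ideal.Quotient.mk _ a) * g (ψ b) + Ideal.Quotient.mk _ a * (g (ψ b) - Ideal.Quotient.mk _ b) := by
              rw [map_mul, map_mul, map_mul]; ring
            rw [e1]
            refine add_mem ?_ ?_
            · rw [pow_succ N (j + 1)]; exact Ideal.mul_mem_mul (ih a ha) hgb
            · have h2 : g (ψ b) - Ideal.Quotient.mk _ b ∈ N ^ 2 := by rw [← Ideal.map_pow]; exact hg b
              rw [show j + 1 + 1 = j + 2 from rfl, pow_add N j 2]
              refine Ideal.mul_mem_mul ?_ h2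
              rw [← Ideal.map_pow]; exact Ideal.mem_map_of_mem _ ha
          | add x _ y _ hx hy =>
            rw [map_add, map_add, map_add, add_sub_add_comm]
            exact add_mem hx hy
      have := claim n p ihn
      rw [hp, map_zero, zero_sub, neg_mem_iff, ← Ideal.map_pow, Ideal.map_quotient_self, Ideal.mem_bot] at this
      exact Ideal.Quotient.eq_zero_iff_mem.1 this
  rw [injective_iff_map_eq_zero]
  intro p hp
  have h : p ∈ ⨅ n : ℕ, M ^ n := Submodule.mem_iInf _ |>.2 (hmem p hp)
  rwa [Ideal.iInf_pow_eq_bot_of_isLocalRing M (maximalIdeal.isMaximal PS).ne_top, Ideal.mem_bot] at h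

theorem isRegularLocalRing_iff_hasLifting (k A : Type u) [Field k]
    [CommRing A] [Algebra k A] [IsLocalRing A] [IsNoetherianRing A]
    [IsAdicComplete (maximalIdeal A) A] (π : A →ₐ[k] k) (hπ : RingHom.ker π = maximalIdeal A) :
    IsRegularLocalRing A ↔ HasLifting k A := by
  have hR : Function.Surjective ((residue A).comp (algebraMap k A)) := fun y => by
    obtain ⟨a, rfl⟩ := IsLocalRing.residue_surjective y
    refine ⟨π a, sub_eq_zero.1 ?_⟩
    rw [RingHom.comp_apply, ← map_sub, residue_eq_zero_iff, ← hπ, RingHom.mem_ker, map_sub,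
      AlgHom.commutes]
    exact sub_self _
  let b := Module.finBasis (ResidueField A) (CotangentSpace A)
  choose x hx using fun i => (maximalIdeal A).toCotangent_surjective (b i)
  let ψ : MvPowerSeries (Fin (Module.finrank (ResidueField A) (CotangentSpace A))) k →ₐ[k] A :=
    Groth.Calg6.evalAdic (maximalIdeal A) (fun i => (x i : A)) fun i => (x i).2
  have hψX : ∀ i, ψ (X i) = x i := fun i => Groth.Calg6.evalAdic_X _ _ _ i
  have hψ : ∀ i, ψ (X i) ∈ maximalIdeal A := fun i => hψX i ▸ (x i).2
  have hbeq : (fun i => (maximalIdeal A).toCotangent ⟨ψ (X i), hψ i⟩) = b := funext fun i => by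
    rw [← hx i]; congr 1; exact Subtype.ext (hψX i)
  have hb : LinearIndependent (ResidueField A) fun i => (maximalIdeal A).toCotangent ⟨ψ (X i), hψ i⟩ := by
    rw [hbeq]; exact b.linearIndependent
  have hsp : Submodule.span (ResidueField A)
      (Set.range fun i => (maximalIdeal A).toCotangent ⟨ψ (X i), hψ i⟩) = ⊤ := by
    rw [hbeq]; exact b.span_eq
  have hsurj := Groth.Calg6.surjective_of_cotangent hR ψ hψ hsp
  constructor
  · intro hreg R _ _ _ _ J hJ f hf
    have hinj : Function.Injective ψ := by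
      haveI : IsDomain (MvPowerSeries (Fin (Module.finrank (ResidueField A) (CotangentSpace A))) k) :=
        NoZeroDivisors.to_isDomain _
      rw [injective_iff_map_eq_zero]
      intro f hf
      by_contra hf0
      have h1 := ringKrullDim_quotient_succ_le_of_nonZeroDivisor (mem_nonZeroDivisors_of_ne_zero hf0)
      have h2 : ringKrullDim A ≤ ringKrullDim (_ ⧸ Ideal.span {f}) := by
        refine ringKrullDim_le_of_surjective (Ideal.Quotient.lift _ ψ.toRingHom fun a ha => ?_) ?_
        · obtain ⟨c, rfl⟩ := Ideal.mem_span_singleton.1 ha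
          show ψ (f * c) = 0
          rw [map_mul, hf, zero_mul]
        · intro y; obtain ⟨z, rfl⟩ := hsurj y; exact ⟨Ideal.Quotient.mk _ z, rfl⟩
      rw [Groth.Calg6.ringKrullDim_mvPowerSeries] at h1
      rw [← (IsRegularLocalRing.iff_finrank_cotangentSpace A).1 hreg] at h2
      have h3 := (add_le_add_left h2 1).trans h1
      norm_cast at h3
      simp at h3
    let e := AlgEquiv.ofBijective ψ ⟨hinj, hsurj⟩
    let fe := f.comp e.toAlgHom
    have hnon : ∀ a, IsUnit (fe a) → IsUnit a := fun a ha => by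
      have := (isUnit_map_iff (f : A →+* R ⧸ J) (e a)).1 ha
      simpa using this.map e.symm
    haveI : IsLocalHom (fe : MvPowerSeries (Fin (Module.finrank (ResidueField A) (CotangentSpace A))) k →+* R ⧸ J) := ⟨hnon⟩
    obtain ⟨g, hg⟩ := exists_lift_algHom J hJ (f.comp e.toAlgHom)
    refine ⟨g.comp e.symm.toAlgHom, AlgHom.ext fun a => ?_⟩
    have := DFunLike.congr_fun hg (e.symm a)
    simpa using this
  · intro hlift
    haveI := Groth.Calg6.isRegularLocalRing_mvPowerSeries k (Module.finrank (ResidueField A) (CotangentSpace A))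
    exact IsRegularLocalRing.of_ringEquiv (RingEquiv.ofBijective ψ
      ⟨injective_of_hasLifting ψ hsurj (Groth.Calg6.ker_le_sq ψ hψ hb) hlift, hsurj⟩)

end Groth.Calg71
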