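import Groth.Agent.EGA41Two.QuasiRegular
import Mathlib.RingTheory.Smooth.Basic
import Mathlib.RingTheory.MvPolynomial.Ideal

/-! Thickenings along a weakly regular sequence with formally smooth quotient. -/

set_option autoImplicit false
set_option backward.isDefEq.respectTransparency false
set_option backward.isDefEq.respectTransparency.types false

universe u v

open MvPolynomial

namespace Groth.Calg71

theorem exists_truncPoly_equiv
    (R : Type u) (A : Type v) [CommRing R] [CommRing A] [Algebra R A] (d : ℕ) (x : Fin d → A)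
    (hqr : CAlgX.IsQuasiRegular x)
    [Algebra.FormallySmooth R (A ⧸ Ideal.span (Set.range x))] (N : ℕ) (hN : 1 ≤ N) :
    ∃ e : (A ⧸ Ideal.span (Set.range x) ^ N) ≃ₐ[R]
        (MvPolynomial (Fin d) (A ⧸ Ideal.span (Set.range x)) ⧸
          Ideal.span (Set.range (MvPolynomial.X : Fin d → MvPolynomial (Fin d) (A ⧸ Ideal.span (Set.range x)))) ^ N),
      (∀ i : Fin d, e (Ideal.Quotient.mk _ (x i)) = Ideal.Quotient.mk _ (MvPolynomial.X i)) ∧
      ∀ a : A, e (Ideal.Quotient.mk _ a) - Ideal.Quotient.mk _ (MvPolynomial.C (Ideal.Quotient.mk _ a)) ∈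
        (Ideal.span (Set.range (MvPolynomial.X : Fin d → MvPolynomial (Fin d) (A ⧸ Ideal.span (Set.range x))))).map
          (Ideal.Quotient.mk _) := by
  classical
  let J := Ideal.span (Set.range x)
  let B := A ⧸ J
  let T : Ideal (MvPolynomial (Fin d) B) := Ideal.span (Set.range MvPolynomial.X)
  let m := Ideal.Quotient.mk (J ^ N)
  let Jb : Ideal (A ⧸ J ^ N) := J.map m
  have hJb : Jb ^ N = ⊥ := by rw [← Ideal.map_pow]; exact Ideal.map_quotient_self _
  have hle : J ^ N ≤ J := Ideal.pow_le_self (by omega)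
  let g : (A ⧸ J ^ N) →ₐ[R] B := Ideal.Quotient.factorₐ R hle
  have hg : Function.Surjective g := fun b => by
    obtain ⟨a, rfl⟩ := Ideal.Quotient.mk_surjective b
    exact ⟨m a, rfl⟩
  have hker : RingHom.ker (g : (A ⧸ J ^ N) →+* B) ≤ Jb := fun y hy => by
    obtain ⟨a, rfl⟩ := Ideal.Quotient.mk_surjective y
    exact Ideal.mem_map_of_mem _ (Ideal.Quotient.eq_zero_iff_mem.1 (show Ideal.Quotient.mk J a = 0 from hy))
  have hnil : IsNilpotent (RingHom.ker (g : (A ⧸ J ^ N) →+* B)) :=
    ⟨N, le_bot_iff.1 ((Ideal.pow_right_mono hker N).trans hJb.le)⟩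
  let s : B →ₐ[R] (A ⧸ J ^ N) := Algebra.FormallySmooth.liftOfSurjective (AlgHom.id R B) g hg hnil
  have hs : ∀ b, g (s b) = b := fun b => by
    show g (Algebra.FormallySmooth.liftOfSurjective (AlgHom.id R B) g hg hnil b) = b
    rw [Algebra.FormallySmooth.liftOfSurjective_apply]; rfl
  have hsJ : ∀ a, m a - s (Ideal.Quotient.mk J a) ∈ Jb := fun a => hker <| by
    show g (m a - s (Ideal.Quotient.mk J a)) = 0
    rw [map_sub, hs]
    exact sub_self _
  let φ : MvPolynomial (Fin d) B →+* A ⧸ J ^ N := eval₂Hom s.toRingHom fun i => m (x i)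
  have hT : T.map φ = Jb := by
    simp only [T, Jb, J, Ideal.map_span, ← Set.range_comp]
    congr 2; ext i; simp [φ, m, J]
  have hTN : ∀ q ∈ T ^ N, φ q = 0 := fun q hq => by
    have := Ideal.mem_map_of_mem φ hq
    rwa [Ideal.map_pow, hT, hJb, Ideal.mem_bot] at this
  have hsurj : Function.Surjective φ := by
    have step : ∀ k, ∀ z ∈ Jb ^ k, ∃ q, z - φ q ∈ Jb ^ (k + 1) := by
      intro k z hz
      rw [← hT, ← Ideal.map_pow] at hz
      induction hz using Submodule.span_induction with
      | mem z hz => obtain ⟨q, -, rfl⟩ := hz; exact ⟨q, by rw [sub_self]; exact zero_mem _⟩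
      | zero => exact ⟨0, by rw [map_zero, sub_zero]; exact zero_mem _⟩
      | add a b _ _ ha hb =>
        obtain ⟨qa, ha⟩ := ha; obtain ⟨qb, hb⟩ := hb
        refine ⟨qa + qb, ?_⟩
        rw [map_add, add_sub_add_comm]; exact add_mem ha hb
      | smul c b hb ih =>
        obtain ⟨q, hq⟩ := ih
        obtain ⟨c, rfl⟩ := Ideal.Quotient.mk_surjective c
        refine ⟨C (Ideal.Quotient.mk J c) * q, ?_⟩
        have hbk : b ∈ Jb ^ k := by rw [← hT, ← Ideal.map_pow]; exact hb
        have : m c • b - φ (C (Ideal.Quotient.mk J c) * q) =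
            (m c - s (Ideal.Quotient.mk J c)) * b + s (Ideal.Quotient.mk J c) * (b - φ q) := by
          rw [map_mul, show φ (C (Ideal.Quotient.mk J c)) = s (Ideal.Quotient.mk J c) from eval₂Hom_C _ _ _,
            smul_eq_mul]
          ring
        rw [this]
        refine add_mem ?_ (Ideal.mul_mem_left _ _ hq)
        rw [pow_succ']
        exact Ideal.mul_mem_mul (hsJ c) hbk
    have key : ∀ k, ∀ y, ∃ q, y - φ q ∈ Jb ^ k := by
      intro k
      induction k with
      | zero => exact fun y => ⟨0, by rw [pow_zero, Ideal.one_eq_top]; trivial⟩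
      | succ k ih =>
        intro y
        obtain ⟨q, hq⟩ := ih y
        obtain ⟨q', hq'⟩ := step k _ hq
        exact ⟨q + q', by rwa [map_add, ← sub_sub]⟩
    intro y
    obtain ⟨q, hq⟩ := key N y
    rw [hJb, Ideal.mem_bot, sub_eq_zero] at hq
    exact ⟨q, hq.symm⟩
  have hkerφ : ∀ p, φ p = 0 → p ∈ T ^ N := by
    intro p hp
    obtain ⟨σ, hσ⟩ : ∃ σ : B → A, ∀ b, Ideal.Quotient.mk J (σ b) = b :=
      ⟨Function.surjInv Ideal.Quotient.mk_surjective, fun b => Function.surjInv_eq _ b⟩
    have main : ∀ n, n < N → ∀ e : Fin d →₀ ℕ, e.degree = n → p.coeff e = 0 := by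
      intro n
      induction n using Nat.strong_induction_on with
      | _ n ih =>
        intro hn e he
        let F := p.support.filter fun e => e.degree = n
        let P : MvPolynomial (Fin d) A := ∑ e ∈ F, monomial e (σ (p.coeff e))
        have hPh : P.IsHomogeneous n := IsHomogeneous.sum _ _ _ fun e he =>
          isHomogeneous_monomial _ (Finset.mem_filter.1 he).2
        have hmon : ∀ (e : Fin d →₀ ℕ) k, k ≤ e.degree → ∏ i, m (x i) ^ e i ∈ Jb ^ k := by
          intro e k hk
          refine Ideal.pow_le_pow_right hk ?_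
          rw [Finsupp.degree_eq_sum, ← Finset.prod_pow_eq_pow_sum]
          exact Ideal.prod_mem_prod fun i _ =>
            Ideal.pow_mem_pow (Ideal.mem_map_of_mem _ (show x i ∈ J from Ideal.subset_span ⟨i, rfl⟩)) _
        have hev : m (eval x P) ∈ Jb ^ (n + 1) := by
          have h1 : m (eval x P) = ∑ e ∈ F, m (σ (p.coeff e)) * ∏ i, m (x i) ^ e i := by
            simp only [P, map_sum, eval_monomial, map_mul]
            refine Finset.sum_congr rfl fun e _ => ?_
            rw [Finsupp.prod_fintype _ _ fun i => pow_zero _, map_prod]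
            simp only [map_pow]
          have h2 : ∑ e ∈ p.support, s (p.coeff e) * ∏ i, m (x i) ^ e i = 0 := by
            rw [← hp]
            exact (eval₂_eq' s.toRingHom _ p).symm
          rw [← Finset.sum_filter_add_sum_filter_not p.support (fun e => e.degree = n)] at h2
          have h3 : ∑ e ∈ F, m (σ (p.coeff e)) * ∏ i, m (x i) ^ e i =
            ∑ e ∈ F, (m (σ (p.coeff e)) - s (p.coeff e)) * ∏ i, m (x i) ^ e i +
              -(∑ e ∈ p.support.filter (fun e => ¬ e.degree = n), s (p.coeff e) * ∏ i, m (x i) ^ e i) := by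
            rw [← eq_neg_of_add_eq_zero_left h2, ← Finset.sum_add_distrib]
            exact Finset.sum_congr rfl fun e _ => by ring
          rw [h1, h3]
          refine add_mem (sum_mem fun e he => ?_) (neg_mem (sum_mem fun e he => ?_))
          · rw [pow_succ']
            refine Ideal.mul_mem_mul ?_ (hmon e n (Finset.mem_filter.1 he).2.ge)
            have := hsJ (σ (p.coeff e))
            rwa [hσ] at this
          · obtain ⟨he1, he2⟩ := Finset.mem_filter.1 he
            refine Ideal.mul_mem_left _ _ (hmon e (n + 1) ?_)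
            by_contra hlt
            exact (mem_support_iff.1 he1) (ih e.degree (by omega) (by omega) e rfl)
        have hevJ : eval x P ∈ J ^ (n + 1) := by
          have : eval x P ∈ ((J ^ (n + 1)).map m).comap m := by
            rw [Ideal.mem_comap, Ideal.map_pow]; exact hev
          rw [Ideal.comap_map_of_surjective _ Ideal.Quotient.mk_surjective, ← RingHom.ker_eq_comap_bot,
            Ideal.mk_ker, sup_eq_left.2 (Ideal.pow_le_pow_right (by omega : n + 1 ≤ N))] at this
          exact this
        by_contra hne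
        have heF : e ∈ F := Finset.mem_filter.2 ⟨mem_support_iff.2 hne, he⟩
        have hc := hqr n P hPh hevJ e
        simp only [P, coeff_sum, coeff_monomial, Finset.sum_ite_eq', heF, if_true] at hc
        exact hne ((hσ _).symm.trans (Ideal.Quotient.eq_zero_iff_mem.2 hc))
    show p ∈ idealOfVars (Fin d) B ^ N
    rw [mem_pow_idealOfVars_iff']
    intro e he
    exact main _ he e rfl
  let ψ : (MvPolynomial (Fin d) B ⧸ T ^ N) →ₐ[R] (A ⧸ J ^ N) :=
    Ideal.Quotient.liftₐ (T ^ N)
      { toRingHom := φ, commutes' := fun r => by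
          show φ (C (algebraMap R B r)) = _
          rw [eval₂Hom_C]; exact s.commutes r } hTN
  have hψ : Function.Bijective ψ := by
    refine ⟨(injective_iff_map_eq_zero ψ).2 fun y hy => ?_, fun y => ?_⟩
    · obtain ⟨p, rfl⟩ := Ideal.Quotient.mk_surjective y
      exact Ideal.Quotient.eq_zero_iff_mem.2 (hkerφ p hy)
    · obtain ⟨p, rfl⟩ := hsurj y
      exact ⟨Ideal.Quotient.mk _ p, rfl⟩
  let E := (AlgEquiv.ofBijective ψ hψ).symm
  have hE : ∀ p, E (φ p) = Ideal.Quotient.mk (T ^ N) p := fun p =>
    (AlgEquiv.ofBijective ψ hψ).symm_apply_apply (Ideal.Quotient.mk _ p)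
  refine ⟨E, fun i => ?_, fun a => ?_⟩
  · have : φ (MvPolynomial.X i) = m (x i) := eval₂Hom_X' _ _ _
    exact (congrArg E this).symm.trans (hE _)
  · have h1 := hsJ a
    rw [← hT, Ideal.mem_map_iff_of_surjective _ hsurj] at h1
    obtain ⟨q, hq, hqe⟩ := h1
    have h2 : m a = φ (C (Ideal.Quotient.mk J a) + q) := by
      rw [map_add, hqe, show φ (C (Ideal.Quotient.mk J a)) = s (Ideal.Quotient.mk J a) from eval₂Hom_C _ _ _]
      abel
    rw [show E (Ideal.Quotient.mk _ a) = _ from (congrArg E h2).trans (hE _), map_add, add_sub_cancel_left]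
    exact Ideal.mem_map_of_mem _ hq

end Groth.Calg71
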